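import Groth.Agent.PBasis.Separable

/-!
# Separability and absolute differentials
-/

universe u

open scoped TensorProduct

namespace Groth.Agent.CAlgPBasisZ

theorem injective_of_surjective_base (P : Type u) [CommRing P] (hP : Function.Surjective (algebraMap ℤ P))
    (k K : Type u) [CommRing k] [CommRing K] [Algebra k K] [Algebra P k] [Algebra P K] [IsScalarTower P k K]
    (h : Function.Injective (KaehlerDifferential.mapBaseChange ℤ k K)) :
    Function.Injective (KaehlerDifferential.mapBaseChange P k K) := by
  haveI : Algebra.FormallyUnramified ℤ P := Algebra.FormallyUnramified.of_surjective (Algebra.ofId ℤ P) hP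
  have hinj : Function.Injective (KaehlerDifferential.map ℤ P K K) := by
    rw [← LinearMap.ker_eq_bot, (KaehlerDifferential.exact_mapBaseChange_map ℤ P K).linearMap_ker_eq,
      LinearMap.range_eq_bot]
    exact LinearMap.ext fun z => by simp [Subsingleton.elim z 0]
  let τ : K ⊗[k] Ω[k⁄ℤ] →ₗ[K] K ⊗[k] Ω[k⁄P] :=
    (KaehlerDifferential.map ℤ P k k).baseChange K
  have hτ : Function.Surjective τ := by
    apply LinearMap.lTensor_surjective
    exact KaehlerDifferential.map_surjective ℤ P k
  have hc : (KaehlerDifferential.mapBaseChange P k K) ∘ₗ τ =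
      (KaehlerDifferential.map ℤ P K K) ∘ₗ KaehlerDifferential.mapBaseChange ℤ k K := by
    apply TensorProduct.AlgebraTensorModule.curry_injective
    ext : 1
    refine Derivation.liftKaehlerDifferential_unique _ _ (Derivation.ext fun x => ?_)
    simp [τ, KaehlerDifferential.mapBaseChange_tmul]
  rw [← LinearMap.ker_eq_bot, LinearMap.ker_eq_bot']
  intro z hz
  obtain ⟨w, rfl⟩ := hτ z
  have h1 := LinearMap.congr_fun hc w
  simp only [LinearMap.comp_apply] at h1
  rw [hz, eq_comm, ← map_zero (KaehlerDifferential.map ℤ P K K), hinj.eq_iff,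
    ← map_zero (KaehlerDifferential.mapBaseChange ℤ k K), h.eq_iff] at h1
  rw [h1, map_zero]

theorem isGeometricallyReduced_iff {k K : Type u} [Field k] [Field K] [Algebra k K] (p : ℕ)
    [Fact p.Prime] [CharP k p] :
    Algebra.IsGeometricallyReduced k K ↔ Function.Injective (KaehlerDifferential.mapBaseChange ℤ k K) := by
  rw [← PBasis.formallySmooth_iff_isGeometricallyReduced]
  constructor
  · intro _
    have h2 := Algebra.H1Cotangent.exact_δ_mapBaseChange (R := ℤ) (S := k) (T := K)
    rw [← LinearMap.ker_eq_bot, h2.linearMap_ker_eq, LinearMap.range_eq_bot]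
    exact LinearMap.ext fun z => by simp [Subsingleton.elim z 0]
  · intro h
    haveI : CharP K p := charP_of_injective_algebraMap (algebraMap k K).injective p
    letI : Algebra (ULift.{u} (ZMod p)) k :=
      ((ZMod.castHom (dvd_refl p) k).comp ULift.ringEquiv.toRingHom).toAlgebra
    letI : Algebra (ULift.{u} (ZMod p)) K :=
      ((algebraMap k K).comp (algebraMap (ULift.{u} (ZMod p)) k)).toAlgebra
    haveI : IsScalarTower (ULift.{u} (ZMod p)) k K := IsScalarTower.of_algebraMap_eq' rfl
    rw [PBasis.formallySmooth_iff_injective_mapBaseChange p (P := ULift.{u} (ZMod p))]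
    refine injective_of_surjective_base _ (fun x => ?_) k K h
    obtain ⟨n, hn⟩ := ZMod.intCast_surjective x.down
    exact ⟨n, ULift.down_injective (by simp [hn])⟩

end Groth.Agent.CAlgPBasisZ
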